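import Mathlib
import Groth.Prelude.Def_SGA3b
import Groth.Agent.Lib.Helper6.HInt.HI6

/-!
# A tower of liftings modulo the powers of an ideal (helper6)

For a bialgebra `A` with an invariant integral and a formally smooth Hopf algebra `C`, a
multiplicative map `C → (R/I) ⊗ A` lifts to a compatible system of multiplicative maps
`C → (R/I^(n+1)) ⊗ A`.
-/

set_option autoImplicit false
set_option linter.unusedSectionVars false
set_option linter.unusedVariables false
set_option linter.unusedSimpArgs false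
set_option linter.style.haveILetI false
set_option linter.overlappingInstances false
set_option maxHeartbeats 800000
set_option synthInstance.maxHeartbeats 400000

universe u
open TensorProduct SGA3b Coalgebra WithConv
open Groth.Agent.Lib.Helper6.MultType Groth.Agent.Lib.Helper6.FlatDef
open Groth.Agent.Lib.Helper6.HInt

namespace Groth.Agent.Lib.Helper6.HCompl

section Tq

variable {R : Type u} [CommRing R] {K J : Ideal R} (hKJ : K ≤ J)
variable (T : Type u) [CommRing T] [Algebra R T] {T' : Type u} [CommRing T'] [Algebra R T']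

/-- The transition map `(R/K) ⊗ T → (R/J) ⊗ T` for `K ≤ J`. -/
noncomputable def tq : Bq K T →ₐ[R] Bq J T :=
  Algebra.TensorProduct.map (Ideal.Quotient.factorₐ R hKJ) (AlgHom.id R T)

lemma tq_tmul (r : R ⧸ K) (t : T) :
    tq hKJ T (r ⊗ₜ[R] t) = Ideal.Quotient.factorₐ R hKJ r ⊗ₜ[R] t := rfl

lemma tq_iq (t : T) : tq hKJ T (iq K T t) = iq J T t := by
  rw [iq_apply, tq_tmul, map_one]
  rfl

lemma tq_comp_iq : (tq hKJ T).comp (iq K T) = iq J T := AlgHom.ext (tq_iq hKJ T)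

variable {T}

lemma tq_barA (φ : T →ₐ[R] T') (x : Bq K T) :
    tq hKJ T' (barA K φ x) = barA J φ (tq hKJ T x) := by
  induction x using TensorProduct.induction_on with
  | zero => simp
  | tmul r t => rfl
  | add y z hy hz => simp only [map_add, hy, hz]

lemma tq_comp_barA (φ : T →ₐ[R] T') :
    (tq hKJ T').comp (barA K φ) = (barA J φ).comp (tq hKJ T) := AlgHom.ext (tq_barA hKJ φ)

variable (T)

lemma tq_surjective : Function.Surjective (tq hKJ T) := by
  intro y
  obtain ⟨t, rfl⟩ := iq_surjective J T y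
  exact ⟨iq K T t, tq_iq hKJ T t⟩

variable {T}

lemma mem_of_tq_eq_zero {x : Bq K T} (h : tq hKJ T x = 0) :
    x ∈ J.map (algebraMap R (Bq K T)) := by
  obtain ⟨t, rfl⟩ := iq_surjective K T x
  rw [tq_iq] at h
  exact alg_mem_map J (iq K T) (mem_of_iq_eq_zero J h)

lemma tq_eq_zero_of_mem {x : Bq K T} (h : x ∈ J.map (algebraMap R (Bq K T))) :
    tq hKJ T x = 0 := by
  have := alg_mem_map J (tq hKJ T) h
  rwa [map_bar_eq_bot J T le_rfl, Ideal.mem_bot] at this

variable (T)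

lemma ker_tq_nilpotent (hJK : J * J ≤ K) :
    IsNilpotent (RingHom.ker (tq hKJ T : Bq K T →+* Bq J T)) := by
  refine ⟨2, ?_⟩
  rw [Ideal.zero_eq_bot, eq_bot_iff]
  have hsq : RingHom.ker (tq hKJ T : Bq K T →+* Bq J T) ^ 2 =
      RingHom.ker (tq hKJ T : Bq K T →+* Bq J T) * RingHom.ker (tq hKJ T : Bq K T →+* Bq J T) :=
    pow_two _
  rw [hsq, Ideal.mul_le]
  intro a ha b hb
  rw [Ideal.mem_bot]
  exact sqZ_bar K T hJK a (mem_of_tq_eq_zero hKJ ha) b (mem_of_tq_eq_zero hKJ hb)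

variable {T}
variable {C : Type u} [CommRing C] [HopfAlgebra R C]

lemma isJ_of_pushR_tq_eq_zero {u : Cv R C (Bq K T)} (h : pushR (tq hKJ T) u = 0) : IsJ J u := by
  intro c
  apply mem_of_tq_eq_zero hKJ
  have : (pushR (tq hKJ T) u) c = (0 : Cv R C (Bq J T)) c := by rw [h]
  exact this

end Tq

section Tower

variable {R : Type u} [CommRing R] {C : Type u} [CommRing C] [HopfAlgebra R C]
variable {A : Type u} [CommRing A] [Bialgebra R A]

/-- The defect of multiplicativity of a map `C → (R/K) ⊗ A`. -/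
noncomputable def defectB (K : Ideal R) (f : C →ₐ[R] Bq K A) : Cv R C (Bq K (A ⊗[R] A)) :=
  cvOf ((barA K (sM R A)).comp f) -
    cvOf ((barA K (sP1 R A)).comp f) * cvOf ((barA K (sP2 R A)).comp f)

/-- Multiplicativity of a map `C → (R/K) ⊗ A`. -/
def IsComultB (K : Ideal R) (F : C →ₐ[R] Bq K A) : Prop :=
  cvOf ((barA K (sM R A)).comp F) =
    cvOf ((barA K (sP1 R A)).comp F) * cvOf ((barA K (sP2 R A)).comp F)

lemma isComultB_iff (K : Ideal R) (F : C →ₐ[R] Bq K A) : IsComultB K F ↔ defectB K F = 0 := by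
  rw [defectB, sub_eq_zero]
  rfl

variable (lam : A →ₗ[R] R) (h1 : lam 1 = 1)
  (hL : ∀ a : A, TensorProduct.rid R A (lam.lTensor A (comul (R := R) a)) = lam a • (1 : A))

include h1 hL in
theorem sz2_bar (J K : Ideal R) (hJK : J * J ≤ K) (f : C →ₐ[R] Bq K A)
    (hf : IsJ J (defectB K f)) :
    ∃ F' : C →ₐ[R] Bq K A, IsJ J (cvOf F' - cvOf f) ∧ IsComultB K F' :=
  sz2 (R := R) (C := C) (T1 := Bq K A) (T2 := Bq K (A ⊗[R] A))
    (T3 := Bq K ((A ⊗[R] A) ⊗[R] A)) J (sqZ_bar K A hJK) (sqZ_bar K _ hJK) (sqZ_bar K _ hJK)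
    (barA K (sM R A)) (barA K (sP1 R A)) (barA K (sP2 R A))
    (barA K (sD0 R A)) (barA K (sD1 R A)) (barA K (sD2 R A)) (barA K (sD3 R A))
    (barL K (intR lam (A ⊗[R] A))) (barL K (intR lam A))
    (by rw [barA_comp, barA_comp, sys_s1]) (by rw [barA_comp, barA_comp, sys_s2])
    (by rw [barA_comp, barA_comp, sys_s3]) (by rw [barA_comp, barA_comp, sys_s4])
    (by rw [barA_comp, barA_comp, sys_s5]) (by rw [barA_comp, barA_comp, sys_s6])
    (bar_mul K (sD3 R A) (intR lam (A ⊗[R] A)) (sys_i1 lam))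
    (bar_one K _ (intR_one lam h1))
    (bar_nat K (sD1 R A) (intR lam (A ⊗[R] A)) (intR lam A) (sM R A) (sys_i2 lam))
    (bar_nat K (sD2 R A) (intR lam (A ⊗[R] A)) (intR lam A) (sP1 R A) (sys_i3 lam hL))
    (bar_nat K (sD0 R A) (intR lam (A ⊗[R] A)) (intR lam A) (sP2 R A) (sys_i4 lam))
    (bar_one K _ (intR_one lam h1))
    f hf

include h1 hL in
/-- One step of the tower. -/
theorem tower_step [Algebra.FormallySmooth R C] (J K : Ideal R) (hJK : J * J ≤ K) (hKJ : K ≤ J)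
    (F : C →ₐ[R] Bq J A) (hF : IsComultB J F) :
    ∃ F' : C →ₐ[R] Bq K A, IsComultB K F' ∧ (tq hKJ A).comp F' = F := by
  obtain ⟨f, hf⟩ : ∃ f : C →ₐ[R] Bq K A, (tq hKJ A).comp f = F :=
    ⟨Algebra.FormallySmooth.liftOfSurjective F (tq hKJ A) (tq_surjective hKJ A)
      (ker_tq_nilpotent hKJ A hJK), Algebra.FormallySmooth.comp_liftOfSurjective _ _ _ _⟩
  have hdef : IsJ J (defectB K f) := by
    apply isJ_of_pushR_tq_eq_zero hKJ
    have e : ∀ φ : A →ₐ[R] A ⊗[R] A,
        pushR (tq hKJ (A ⊗[R] A)) (cvOf ((barA K φ).comp f)) = cvOf ((barA J φ).comp F) := by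
      intro φ
      rw [pushR_cvOf, ← AlgHom.comp_assoc, tq_comp_barA, AlgHom.comp_assoc, hf]
    rw [defectB, map_sub, map_mul, e, e, e]
    exact sub_eq_zero.mpr hF
  obtain ⟨F', hF'J, hF'c⟩ := sz2_bar lam h1 hL J K hJK f hdef
  refine ⟨F', hF'c, ?_⟩
  apply AlgHom.ext
  intro x
  rw [← hf]
  show tq hKJ A (F' x) = tq hKJ A (f x)
  rw [← sub_eq_zero, ← map_sub]
  exact tq_eq_zero_of_mem hKJ (hF'J x)

/-- A stage of the tower. -/
structure Stage (I : Ideal R) (C : Type u) [CommRing C] [HopfAlgebra R C]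
    (A : Type u) [CommRing A] [Bialgebra R A] (n : ℕ) where
  /-- the map -/
  F : C →ₐ[R] Bq (I ^ (n + 1)) A
  comult : IsComultB (I ^ (n + 1)) F

lemma pow_mul_pow_le (I : Ideal R) (n : ℕ) : I ^ (n + 1) * I ^ (n + 1) ≤ I ^ (n + 1 + 1) := by
  rw [← pow_add]
  exact Ideal.pow_le_pow_right (by omega)

lemma pow_succ_le (I : Ideal R) (n : ℕ) : I ^ (n + 1 + 1) ≤ I ^ (n + 1) :=
  Ideal.pow_le_pow_right (by omega)

lemma pow_one_le (I : Ideal R) : I ^ (0 + 1) ≤ I := by
  rw [zero_add, pow_one]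

lemma mul_self_le_pow_one (I : Ideal R) : I * I ≤ I ^ (0 + 1) := by
  rw [zero_add, pow_one]
  exact Ideal.mul_le_left

include h1 hL in
/-- **The tower of liftings.** -/
theorem exists_tower [Algebra.FormallySmooth R C] (I : Ideal R) (F₀ : C →ₐ[R] Bq I A)
    (h₀ : IsComultB I F₀) :
    ∃ F : ∀ n : ℕ, C →ₐ[R] Bq (I ^ (n + 1)) A, (∀ n, IsComultB (I ^ (n + 1)) (F n)) ∧
      (∀ n, (tq (pow_succ_le I n) A).comp (F (n + 1)) = F n) ∧
      (tq (pow_one_le I) A).comp (F 0) = F₀ := by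
  classical
  have hstep : ∀ n (s : Stage I C A n), ∃ s' : Stage I C A (n + 1),
      (tq (pow_succ_le I n) A).comp s'.F = s.F := by
    intro n s
    obtain ⟨F', hc, hF'⟩ := tower_step lam h1 hL (I ^ (n + 1)) (I ^ (n + 1 + 1))
      (pow_mul_pow_le I n) (pow_succ_le I n) s.F s.comult
    exact ⟨⟨F', hc⟩, hF'⟩
  obtain ⟨F0, hc0, hF0⟩ := tower_step lam h1 hL I (I ^ (0 + 1)) (mul_self_le_pow_one I)
    (pow_one_le I) F₀ h₀
  choose next hnext using hstep
  let seq : ∀ n, Stage I C A n := fun n => Nat.rec ⟨F0, hc0⟩ (fun k s => next k s) n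
  refine ⟨fun n => (seq n).F, fun n => (seq n).comult, fun n => ?_, hF0⟩
  exact hnext n (seq n)

end Tower

end Groth.Agent.Lib.Helper6.HCompl
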