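import Mathlib
import Groth.Prelude.Def_SGA3b
import Groth.Agent.Lib.Helper6.HCompl.HC1
import Groth.Agent.Lib.Helper6.Lift.DiagLift

/-!
# Coefficient functionals of a split group of multiplicative type; orthogonality (helper6)

`B` is a bialgebra over `A` which becomes the group algebra `A'[M]` over an `A`-algebra `A'`.
The coefficients `ell m : B → A'` turn a multiplicative map `C → (A/K) ⊗ B` into a family of
orthogonal idempotents of the convolution ring of `C` with values in `(A/K) ⊗ A'`.
-/

set_option autoImplicit false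
set_option linter.unusedSectionVars false
set_option linter.unusedVariables false
set_option linter.unusedSimpArgs false
set_option linter.style.haveILetI false
set_option linter.overlappingInstances false
set_option maxHeartbeats 800000
set_option synthInstance.maxHeartbeats 400000

universe u
open TensorProduct SGA3b Coalgebra WithConv
open Groth.Agent.Lib.Helper6.MultType Groth.Agent.Lib.Helper6.FlatDef
open Groth.Agent.Lib.Helper6.HInt Groth.Agent.Lib.Helper6.Lift

namespace Groth.Agent.Lib.Helper6.HCompl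

section Init

variable {R : Type u} [CommRing R] (I : Ideal R) {C : Type u} [CommRing C] [HopfAlgebra R C]
variable {A : Type u} [CommRing A] [Bialgebra R A]

/-- A bialgebra map modulo `I` is a multiplicative map `C → (R/I) ⊗ A`. -/
lemma isComultB_of_bialgHom (φ₀ : (R ⧸ I) ⊗[R] C →ₐc[R ⧸ I] (R ⧸ I) ⊗[R] A) :
    IsComultB I (((φ₀ : (R ⧸ I) ⊗[R] C →ₐ[R ⧸ I] (R ⧸ I) ⊗[R] A).restrictScalars R).comp
      (iq I C)) := by
  apply WithConv.ext
  ext x
  show barA I (sM R A) (φ₀ ((1 : R ⧸ I) ⊗ₜ[R] x)) =
    (cvOf ((barA I (sP1 R A)).comp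
        (((φ₀ : (R ⧸ I) ⊗[R] C →ₐ[R ⧸ I] (R ⧸ I) ⊗[R] A).restrictScalars R).comp (iq I C))) *
      cvOf ((barA I (sP2 R A)).comp
        (((φ₀ : (R ⧸ I) ⊗[R] C →ₐ[R ⧸ I] (R ⧸ I) ⊗[R] A).restrictScalars R).comp (iq I C)))) x
  rw [LinearMap.convMul_apply]
  apply (TensorProduct.AlgebraTensorModule.distribBaseChange R (R ⧸ I) A A).injective
  have ha : ∀ y : (R ⧸ I) ⊗[R] A,
      TensorProduct.AlgebraTensorModule.distribBaseChange R (R ⧸ I) A A (barA I (sM R A) y) =
        comul (R := R ⧸ I) y := by
    intro y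
    induction y using TensorProduct.induction_on with
    | zero => simp
    | tmul r b =>
      have e1 : (r ⊗ₜ[R] b : (R ⧸ I) ⊗[R] A) = r • ((1 : R ⧸ I) ⊗ₜ[R] b) := by
        rw [TensorProduct.smul_tmul', smul_eq_mul, mul_one]
      have e2 : (r ⊗ₜ[R] comul (R := R) b : (R ⧸ I) ⊗[R] (A ⊗[R] A)) =
          r • ((1 : R ⧸ I) ⊗ₜ[R] comul (R := R) b) := by
        rw [TensorProduct.smul_tmul', smul_eq_mul, mul_one]
      rw [barA_tmul, sM_apply, e2, map_smul, ← T₀_eq_distrib, ← comul_one_tmul, e1, map_smul]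
    | add y z hy hz => simp only [map_add, hy, hz]
  have hD : ∀ y y' : (R ⧸ I) ⊗[R] A,
      TensorProduct.AlgebraTensorModule.distribBaseChange R (R ⧸ I) A A
        (barA I (sP1 R A) y * barA I (sP2 R A) y') = y ⊗ₜ[R ⧸ I] y' := by
    intro y y'
    induction y using TensorProduct.induction_on with
    | zero => simp
    | tmul r b =>
      induction y' using TensorProduct.induction_on with
      | zero => simp
      | tmul r' b' =>
        rw [barA_tmul, barA_tmul, sP1_apply, sP2_apply, Algebra.TensorProduct.tmul_mul_tmul,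
          Algebra.TensorProduct.tmul_mul_tmul, mul_one, one_mul,
          TensorProduct.AlgebraTensorModule.distribBaseChange_tmul]
        have e1 : ((r * r') ⊗ₜ[R] b : (R ⧸ I) ⊗[R] A) = r' • (r ⊗ₜ[R] b) := by
          rw [TensorProduct.smul_tmul', smul_eq_mul, mul_comm]
        have e2 : (r' ⊗ₜ[R] b' : (R ⧸ I) ⊗[R] A) = r' • ((1 : R ⧸ I) ⊗ₜ[R] b') := by
          rw [TensorProduct.smul_tmul', smul_eq_mul, mul_one]
        rw [e1, e2, TensorProduct.smul_tmul]
      | add y z hy hz => rw [map_add, mul_add, map_add, hy, hz, TensorProduct.tmul_add]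
    | add y z hy hz => rw [map_add, add_mul, map_add, hy, hz, TensorProduct.add_tmul]
  have hb : ∀ z : C ⊗[R] C,
      TensorProduct.AlgebraTensorModule.distribBaseChange R (R ⧸ I) A A
        (LinearMap.mul' R (Bq I (A ⊗[R] A)) (TensorProduct.map
          (cvOf ((barA I (sP1 R A)).comp
            (((φ₀ : (R ⧸ I) ⊗[R] C →ₐ[R ⧸ I] (R ⧸ I) ⊗[R] A).restrictScalars R).comp
              (iq I C)))).ofConv
          (cvOf ((barA I (sP2 R A)).comp
            (((φ₀ : (R ⧸ I) ⊗[R] C →ₐ[R ⧸ I] (R ⧸ I) ⊗[R] A).restrictScalars R).comp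
              (iq I C)))).ofConv z)) =
      TensorProduct.map (φ₀ : (R ⧸ I) ⊗[R] C →ₗ[R ⧸ I] (R ⧸ I) ⊗[R] A)
        (φ₀ : (R ⧸ I) ⊗[R] C →ₗ[R ⧸ I] (R ⧸ I) ⊗[R] A) (T₀ R (R ⧸ I) C z) := by
    intro z
    induction z using TensorProduct.induction_on with
    | zero => simp only [map_zero]
    | tmul a b =>
      rw [TensorProduct.map_tmul, LinearMap.mul'_apply, T₀_tmul, TensorProduct.map_tmul]
      exact hD _ _
    | add y z hy hz => simp only [map_add, hy, hz]
  rw [ha, hb, ← comul_one_tmul R (R ⧸ I) C x]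
  exact (CoalgHomClass.map_comp_comul_apply φ₀ _).symm

end Init

section Coeff

variable {A : Type u} [CommRing A] {A' : Type u} [CommRing A'] [Algebra A A']
variable {B : Type u} [CommRing B] [Bialgebra A B] {M : Type u} [CommGroup M]
variable (e : A' ⊗[A] B ≃ₐc[A'] MonoidAlgebra A' M)

/-- The coefficient of `m`. -/
noncomputable def cfm (A' : Type u) [CommRing A'] {M : Type u} [CommGroup M] (m : M) :
    MonoidAlgebra A' M →ₗ[A'] A' :=
  (Finsupp.lapply m) ∘ₗ (MonoidAlgebra.coeffLinearEquiv A').toLinearMap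

lemma cfm_apply (m : M) (x : MonoidAlgebra A' M) : cfm A' m x = x.coeff m := rfl

lemma cfm_single [DecidableEq M] (m k : M) (a : A') :
    cfm A' m (MonoidAlgebra.single k a) = if k = m then a else 0 := by
  show (MonoidAlgebra.single k a).coeff m = _
  exact Finsupp.single_apply

/-- The `A`-linear equivalence `A' ⊗ B ≃ (M →₀ A')`. -/
noncomputable def rho : A' ⊗[A] B ≃ₗ[A] (M →₀ A') :=
  (e.toCoalgEquiv.toLinearEquiv ≪≫ₗ MonoidAlgebra.coeffLinearEquiv A').restrictScalars A

lemma rho_apply (y : A' ⊗[A] B) (m : M) : rho e y m = (e y).coeff m := rfl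

/-- The coefficient functionals `B → A'`. -/
noncomputable def ell (m : M) : B →ₗ[A] A' :=
  (((Finsupp.lapply (R := A') (M := A') m).restrictScalars A) ∘ₗ (rho e).toLinearMap) ∘ₗ
    (TensorProduct.mk A A' B 1)

lemma ell_apply (m : M) (b : B) : ell e m b = (e ((1 : A') ⊗ₜ[A] b)).coeff m := rfl

lemma ell_eq_rho (m : M) (b : B) : ell e m b = rho e ((1 : A') ⊗ₜ[A] b) m := rfl

/-- `b ⊗ b' ↦ ell m b * ell m' b'`. -/
noncomputable def theta (m m' : M) : B ⊗[A] B →ₗ[A] A' :=
  LinearMap.mul' A A' ∘ₗ TensorProduct.map (ell e m) (ell e m')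

lemma theta_tmul (m m' : M) (b b' : B) :
    theta e m m' (b ⊗ₜ[A] b') = ell e m b * ell e m' b' := rfl

/-- `x ⊗ x' ↦ x_m x'_{m'}`. -/
noncomputable def cc (A' : Type u) [CommRing A'] {M : Type u} [CommGroup M] (m m' : M) :
    MonoidAlgebra A' M ⊗[A'] MonoidAlgebra A' M →ₗ[A'] A' :=
  LinearMap.mul' A' A' ∘ₗ TensorProduct.map (cfm A' m) (cfm A' m')

lemma cc_comul [DecidableEq M] (m m' : M) (x : MonoidAlgebra A' M) :
    cc A' m m' (comul (R := A') x) = if m = m' then cfm A' m x else 0 := by
  induction x using MonoidAlgebra.induction_linear with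
  | zero => simp
  | add x y hx hy =>
    rw [map_add, map_add, hx, hy]
    split_ifs
    · rw [map_add]
    · rw [add_zero]
  | single k a =>
    rw [comul_single']
    show cfm A' m (MonoidAlgebra.single k 1) * cfm A' m' (MonoidAlgebra.single k a) = _
    rw [cfm_single, cfm_single, cfm_single]
    by_cases h1 : k = m
    · by_cases h2 : k = m'
      · subst h1
        subst h2
        simp
      · subst h1
        rw [if_neg h2, mul_zero, if_neg h2]
    · rw [if_neg h1, zero_mul]
      split_ifs <;> rfl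

lemma cc_T₀ (m m' : M) (z : B ⊗[A] B) :
    cc A' m m' (TensorProduct.map (e : A' ⊗[A] B →ₗ[A'] MonoidAlgebra A' M)
      (e : A' ⊗[A] B →ₗ[A'] MonoidAlgebra A' M) (T₀ A A' B z)) = theta e m m' z := by
  induction z using TensorProduct.induction_on with
  | zero => simp
  | tmul b b' =>
    rw [T₀_tmul, TensorProduct.map_tmul]
    rfl
  | add y z hy hz => simp only [map_add, hy, hz]

lemma theta_comul [DecidableEq M] (m m' : M) (b : B) :
    theta e m m' (comul (R := A) b) = if m = m' then ell e m b else 0 := by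
  have h1 : TensorProduct.map (e : A' ⊗[A] B →ₗ[A'] MonoidAlgebra A' M)
      (e : A' ⊗[A] B →ₗ[A'] MonoidAlgebra A' M) (comul (R := A') ((1 : A') ⊗ₜ[A] b)) =
      comul (R := A') (e ((1 : A') ⊗ₜ[A] b)) := CoalgHomClass.map_comp_comul_apply e _
  rw [← cc_T₀, ← comul_one_tmul A A' B b, h1, cc_comul]
  rfl

variable {C : Type u} [CommRing C] [HopfAlgebra A C]

lemma barL_theta_sM [DecidableEq M] (K : Ideal A) (m m' : M) (y : Bq K B) :
    barL K (theta e m m') (barA K (sM A B) y) = if m = m' then barL K (ell e m) y else 0 := by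
  induction y using TensorProduct.induction_on with
  | zero => simp
  | tmul r b =>
    rw [barA_tmul, barL_tmul, sM_apply, theta_comul]
    split_ifs
    · rfl
    · rw [TensorProduct.tmul_zero]
  | add y z hy hz =>
    rw [map_add, map_add, hy, hz]
    split_ifs
    · rw [map_add]
    · rw [add_zero]

lemma barL_theta_mul (K : Ideal A) (m m' : M) (y y' : Bq K B) :
    barL K (theta e m m') (barA K (sP1 A B) y * barA K (sP2 A B) y') =
      barL K (ell e m) y * barL K (ell e m') y' := by
  induction y using TensorProduct.induction_on with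
  | zero => simp
  | tmul r b =>
    induction y' using TensorProduct.induction_on with
    | zero => simp
    | tmul r' b' =>
      rw [barA_tmul, barA_tmul, sP1_apply, sP2_apply, Algebra.TensorProduct.tmul_mul_tmul,
        Algebra.TensorProduct.tmul_mul_tmul, mul_one, one_mul, barL_tmul, barL_tmul, barL_tmul,
        Algebra.TensorProduct.tmul_mul_tmul, theta_tmul]
    | add y z hy hz => rw [map_add, mul_add, map_add, hy, hz, map_add, mul_add]
  | add y z hy hz => rw [map_add, add_mul, map_add, hy, hz, map_add, add_mul]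

/-- **Orthogonality** of the coefficient functionals of a multiplicative map. -/
theorem orth_bar [DecidableEq M] (K : Ideal A) (F : C →ₐ[A] Bq K B) (hF : IsComultB K F)
    (m m' : M) :
    pushL (barL K (ell e m)) (cvOf F) * pushL (barL K (ell e m')) (cvOf F) =
      if m = m' then pushL (barL K (ell e m)) (cvOf F) else 0 := by
  have h := congrArg (pushL (barL K (theta e m m'))) hF
  have hl : pushL (barL K (theta e m m')) (cvOf ((barA K (sM A B)).comp F)) =
      if m = m' then pushL (barL K (ell e m)) (cvOf F) else 0 := by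
    apply WithConv.ext
    ext c
    show barL K (theta e m m') (barA K (sM A B) (F c)) = _
    rw [barL_theta_sM]
    split_ifs <;> rfl
  have hr : pushL (barL K (theta e m m'))
      (cvOf ((barA K (sP1 A B)).comp F) * cvOf ((barA K (sP2 A B)).comp F)) =
      pushL (barL K (ell e m)) (cvOf F) * pushL (barL K (ell e m')) (cvOf F) := by
    apply WithConv.ext
    ext c
    show barL K (theta e m m')
      ((cvOf ((barA K (sP1 A B)).comp F) * cvOf ((barA K (sP2 A B)).comp F)) c) =
      (pushL (barL K (ell e m)) (cvOf F) * pushL (barL K (ell e m')) (cvOf F)) c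
    rw [(ℛ A c).convMul_apply, (ℛ A c).convMul_apply, map_sum]
    refine Finset.sum_congr rfl (fun i _ => ?_)
    exact barL_theta_mul e K m m' _ _
  rw [hl, hr] at h
  exact h.symm

end Coeff

end Groth.Agent.Lib.Helper6.HCompl
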