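import Mathlib
import Groth.Prelude.Def_SGA3b
import Groth.Agent.Lib.Helper6.HCompl.HC2
import Groth.Agent.Lib.Helper6.Lift.Amitsur

/-!
# General lemmas for the algebraization of a tower (helper6)

Finite support of orthogonal idempotents in a convolution ring over a Noetherian ring; adic
separatedness tested through families of linear functionals; limits of compatible systems in a
complete module; descent of membership in `J • ⊤` along a faithfully flat map.
-/

set_option autoImplicit false
set_option linter.unusedSectionVars false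
set_option linter.unusedVariables false
set_option linter.unusedSimpArgs false
set_option linter.style.haveILetI false
set_option linter.overlappingInstances false
set_option maxHeartbeats 800000
set_option synthInstance.maxHeartbeats 400000

universe u
open TensorProduct SGA3b Coalgebra WithConv
open Groth.Agent.Lib.Helper6.MultType Groth.Agent.Lib.Helper6.FlatDef
open Groth.Agent.Lib.Helper6.HInt Groth.Agent.Lib.Helper6.Lift

namespace Groth.Agent.Lib.Helper6.HCompl

section Gen

variable {A : Type u} [CommRing A]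

lemma smul_top_map_mem {X Y : Type u} [AddCommGroup X] [Module A X] [AddCommGroup Y] [Module A Y]
    (J : Ideal A) (f : X →ₗ[A] Y) {x : X} (hx : x ∈ J • (⊤ : Submodule A X)) :
    f x ∈ J • (⊤ : Submodule A Y) := by
  refine Submodule.smul_induction_on hx ?_ ?_
  · intro r hr n _
    rw [map_smul]
    exact Submodule.smul_mem_smul hr Submodule.mem_top
  · intro a b ha hb
    rw [map_add]
    exact Submodule.add_mem _ ha hb

lemma mem_smul_top_iff (J : Ideal A) {T : Type u} [CommRing T] [Algebra A T] (x : T) :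
    x ∈ J • (⊤ : Submodule A T) ↔ x ∈ J.map (algebraMap A T) := by
  rw [Ideal.smul_top_eq_map]
  exact Iff.rfl

/-- Adic separatedness can be tested through a jointly injective family of linear maps to a
separated module. -/
lemma eq_zero_of_family {X W : Type u} {ι : Type*} [AddCommGroup X] [Module A X] [AddCommGroup W]
    [Module A W] (I : Ideal A) [IsHausdorff I W] (ψ : ι → X →ₗ[A] W)
    (hψ : ∀ x, (∀ i, ψ i x = 0) → x = 0)
    (x : X) (hx : ∀ n : ℕ, x ∈ (I ^ (n + 1)) • (⊤ : Submodule A X)) : x = 0 := by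
  apply hψ
  intro i
  apply IsHausdorff.haus ‹IsHausdorff I W›
  intro n
  rw [SModEq.zero]
  have h1 := smul_top_map_mem (I ^ (n + 1)) (ψ i) (hx n)
  exact Submodule.smul_mono_left (Ideal.pow_le_pow_right (Nat.le_succ n)) h1

lemma finsupp_mem_smul_top {X V : Type u} [AddCommGroup V] [Module A V] (J : Ideal A)
    (g : X →₀ V) (hg : ∀ x, g x ∈ J • (⊤ : Submodule A V)) :
    g ∈ J • (⊤ : Submodule A (X →₀ V)) := by
  have h : (∑ x ∈ g.support, Finsupp.single x (g x)) = g := Finsupp.sum_single g
  rw [← h]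
  exact Submodule.sum_mem _
    (fun x _ => smul_top_map_mem J (Finsupp.lsingle (R := A) x) (hg x))

/-- Membership in `J • ⊤` descends along a faithfully flat algebra. -/
lemma mem_smul_top_of_one_tmul_mem (A' : Type u) [CommRing A'] [Algebra A A']
    [Module.FaithfullyFlat A A'] {N : Type u} [AddCommGroup N] [Module A N] (J : Ideal A) (b : N)
    (h : (1 : A') ⊗ₜ[A] b ∈ J • (⊤ : Submodule A (A' ⊗[A] N))) :
    b ∈ J • (⊤ : Submodule A N) := by
  apply FlatDef.mem_smul_top_of_one_tmul J b
  apply Module.FaithfullyFlat.tensorProduct_mk_injective (A := A) (B := A') ((A ⧸ J) ⊗[A] N)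
  rw [map_zero]
  show (1 : A') ⊗ₜ[A] ((1 : A ⧸ J) ⊗ₜ[A] b) = 0
  apply (TensorProduct.leftComm A A' (A ⧸ J) N).injective
  rw [TensorProduct.leftComm_tmul, map_zero]
  exact FlatDef.one_tmul_of_mem J h

end Gen

section Fin

variable {A : Type u} [CommRing A] {C : Type u} [CommRing C] [HopfAlgebra A C]
variable {A' : Type u} [CommRing A'] [Algebra A A']

/-- A family of pairwise orthogonal idempotents of the convolution ring with values in a Noetherian
ring has finite support at each point. -/
theorem finite_support [IsNoetherianRing A'] {M : Type u} [DecidableEq M] (φ : M → Cv A C A')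
    (horth : ∀ m m', φ m * φ m' = if m = m' then φ m else 0) (c : C) :
    {m | φ m c ≠ 0}.Finite := by
  classical
  obtain ⟨𝓡, -⟩ : ∃ 𝓡 : Coalgebra.Repr A c (C × C), 𝓡 = ℛ A c := ⟨_, rfl⟩
  have hmul : ∀ m m', (φ m * φ m') c = ∑ j : ↥𝓡.index, φ m (𝓡.left j) * φ m' (𝓡.right j) := by
    intro m m'
    rw [𝓡.convMul_apply]
    exact (Finset.sum_coe_sort 𝓡.index (fun i => φ m (𝓡.left i) * φ m' (𝓡.right i))).symm
  obtain ⟨v, hv⟩ : ∃ v : M → (↥𝓡.index → A'), ∀ m j, v m j = φ m (𝓡.right j) :=
    ⟨fun m j => φ m (𝓡.right j), fun _ _ => rfl⟩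
  obtain ⟨u, hu⟩ : ∃ u : M → ((↥𝓡.index → A') →ₗ[A'] A'),
      ∀ m w, u m w = ∑ j : ↥𝓡.index, φ m (𝓡.left j) * w j := by
    refine ⟨fun m => ∑ j : ↥𝓡.index, (φ m (𝓡.left j)) •
      (LinearMap.proj (R := A') (φ := fun _ : ↥𝓡.index => A') j), fun m w => ?_⟩
    simp [LinearMap.sum_apply]
  have huv : ∀ m m', u m (v m') = if m = m' then φ m c else 0 := by
    intro m m'
    rw [hu]
    simp only [hv]
    rw [← hmul, horth]
    split_ifs <;> rfl
  haveI : IsNoetherian A' (↥𝓡.index → A') := isNoetherian_of_isNoetherianRing_of_finite A' _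
  have hfg : (Submodule.span A' (Set.range v)).FG := IsNoetherian.noetherian _
  obtain ⟨S, hS, hspan⟩ := (Submodule.fg_span_iff_fg_span_finset_subset (Set.range v)).mp hfg
  have hpre : ∀ w ∈ S, ∃ m, v m = w := fun w hw => hS hw
  refine (S.attach.image (fun w => (hpre w.1 w.2).choose)).finite_toSet.subset ?_
  intro m hm
  by_contra hmT
  apply hm
  have hker : Submodule.span A' (S : Set (↥𝓡.index → A')) ≤ LinearMap.ker (u m) := by
    rw [Submodule.span_le]
    intro x hx
    rw [SetLike.mem_coe, LinearMap.mem_ker, ← (hpre x hx).choose_spec, huv, if_neg]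
    intro hmx
    apply hmT
    rw [Finset.mem_coe, Finset.mem_image]
    exact ⟨⟨x, hx⟩, Finset.mem_attach _ _, hmx.symm⟩
  have h1 : v m ∈ Submodule.span A' (S : Set (↥𝓡.index → A')) := by
    rw [← hspan]
    exact Submodule.subset_span ⟨m, rfl⟩
  have h2 := LinearMap.mem_ker.mp (hker h1)
  rw [huv, if_pos rfl] at h2
  exact h2

end Fin

section Lim

variable {A : Type u} [CommRing A] (I : Ideal A) {T : Type u} [CommRing T] [Algebra A T]

lemma tq_barL {K J : Ideal A} (hKJ : K ≤ J) {T' : Type u} [CommRing T'] [Algebra A T']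
    (P : T →ₗ[A] T') (x : Bq K T) : tq hKJ T' (barL K P x) = barL J P (tq hKJ T x) := by
  induction x using TensorProduct.induction_on with
  | zero => simp
  | tmul r t => rfl
  | add y z hy hz => simp only [map_add, hy, hz]

lemma eq_of_forall_iq_eq [IsHausdorff I T] {x y : T}
    (h : ∀ n : ℕ, iq (I ^ (n + 1)) T x = iq (I ^ (n + 1)) T y) : x = y := by
  rw [← sub_eq_zero]
  apply IsHausdorff.haus ‹IsHausdorff I T›
  intro n
  rw [SModEq.zero]
  have h1 : iq (I ^ (n + 1)) T (x - y) = 0 := by rw [map_sub, h n, sub_self]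
  have h2 := mem_of_iq_eq_zero (I ^ (n + 1)) h1
  rw [← mem_smul_top_iff] at h2
  exact Submodule.smul_mono_left (Ideal.pow_le_pow_right (Nat.le_succ n)) h2

/-- A compatible system of elements of the `T / I^(n+1) T` has a limit when `T` is precomplete. -/
lemma exists_limit [IsPrecomplete I T] (z : ∀ n : ℕ, Bq (I ^ (n + 1)) T)
    (hz : ∀ n, tq (pow_succ_le I n) T (z (n + 1)) = z n) :
    ∃ a : T, ∀ n, iq (I ^ (n + 1)) T a = z n := by
  have hlift : ∀ n, ∃ b : T, iq (I ^ (n + 1)) T b = z n := fun n => iq_surjective _ T (z n)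
  choose b hb using hlift
  have hstep : ∀ n, b (n + 1) - b n ∈ (I ^ (n + 1)) • (⊤ : Submodule A T) := by
    intro n
    rw [mem_smul_top_iff]
    apply mem_of_iq_eq_zero (I ^ (n + 1))
    rw [map_sub, hb n, ← hz n, ← hb (n + 1), tq_iq, sub_self]
  have hle : ∀ m n, m ≤ n → b n - b m ∈ (I ^ (m + 1)) • (⊤ : Submodule A T) := by
    intro m n hmn
    induction n, hmn using Nat.le_induction with
    | base =>
      rw [sub_self]
      exact Submodule.zero_mem _
    | succ n hmn ih =>
      have e : b (n + 1) - b m = (b (n + 1) - b n) + (b n - b m) := by abel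
      rw [e]
      exact Submodule.add_mem _
        (Submodule.smul_mono_left (Ideal.pow_le_pow_right (by omega)) (hstep n)) ih
  obtain ⟨L, hL⟩ := IsPrecomplete.prec ‹IsPrecomplete I T› (f := b) (by
    intro m n hmn
    rw [SModEq.sub_mem]
    have h1 := hle m n hmn
    have h2 : b m - b n = -(b n - b m) := by abel
    rw [h2]
    exact Submodule.neg_mem _
      (Submodule.smul_mono_left (Ideal.pow_le_pow_right (Nat.le_succ m)) h1))
  refine ⟨L, fun n => ?_⟩
  rw [← hb n]
  symm
  rw [← sub_eq_zero, ← map_sub]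
  apply iq_eq_zero_of_mem (I ^ (n + 1))
  rw [← mem_smul_top_iff]
  have h1 : b n - L = (b n - b (n + 1)) + (b (n + 1) - L) := by abel
  rw [h1]
  refine Submodule.add_mem _ ?_ ?_
  · have h2 : b n - b (n + 1) = -(b (n + 1) - b n) := by abel
    rw [h2]
    exact Submodule.neg_mem _ (hstep n)
  · exact SModEq.sub_mem.mp (hL (n + 1))

/-- A compatible system of linear maps to the `T / I^(n+1) T` has a limit when `T` is complete. -/
lemma exists_limit_lin [IsAdicComplete I T] {X : Type u} [AddCommGroup X] [Module A X]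
    (G : ∀ n : ℕ, X →ₗ[A] Bq (I ^ (n + 1)) T)
    (hG : ∀ n x, tq (pow_succ_le I n) T (G (n + 1) x) = G n x) :
    ∃ φ : X →ₗ[A] T, ∀ n x, iq (I ^ (n + 1)) T (φ x) = G n x := by
  have hex : ∀ x, ∃ a : T, ∀ n, iq (I ^ (n + 1)) T a = G n x := fun x =>
    exists_limit I (fun n => G n x) (fun n => hG n x)
  choose f hf using hex
  refine ⟨{ toFun := f, map_add' := ?_, map_smul' := ?_ }, fun n x => hf x n⟩
  · intro x y
    apply eq_of_forall_iq_eq I
    intro n
    rw [map_add, hf (x + y) n, hf x n, hf y n, map_add]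
  · intro r x
    apply eq_of_forall_iq_eq I
    intro n
    rw [RingHom.id_apply, hf (r • x) n, map_smul, map_smul, hf x n]

variable {C : Type u} [CommRing C] [HopfAlgebra A C]

lemma cv_ext_iq [IsHausdorff I T] {u w : Cv A C T}
    (h : ∀ n : ℕ, pushR (iq (I ^ (n + 1)) T) u = pushR (iq (I ^ (n + 1)) T) w) : u = w := by
  apply WithConv.ext
  ext c
  apply eq_of_forall_iq_eq I
  intro n
  have := congrArg (fun v : Cv A C (Bq (I ^ (n + 1)) T) => v c) (h n)
  exact this

end Lim

end Groth.Agent.Lib.Helper6.HCompl
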