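import Mathlib
import Groth.Prelude.Def_SGA3b
import Groth.Agent.Lib.Helper6.HCompl.HC3
import Groth.Agent.Lib.Helper4.FFAlg1

/-!
# Algebraization of a tower of multiplicative maps into a split group of multiplicative type (helper6)

`A` is a Noetherian ring complete for the `I`-adic topology, `B` a bialgebra over `A` which becomes
the group algebra `A'[M]` over a finite faithfully flat `A`-algebra `A'`.  A compatible system of
multiplicative maps `C → (A/I^(n+1)) ⊗ B` comes from a unique multiplicative map `C → B`.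
-/

set_option autoImplicit false
set_option linter.unusedSectionVars false
set_option linter.unusedVariables false
set_option linter.unusedSimpArgs false
set_option linter.style.haveILetI false
set_option linter.overlappingInstances false
set_option maxHeartbeats 800000
set_option synthInstance.maxHeartbeats 400000

universe u
open TensorProduct SGA3b Coalgebra WithConv
open Groth.Agent.Lib.Helper6.MultType Groth.Agent.Lib.Helper6.FlatDef
open Groth.Agent.Lib.Helper6.HInt Groth.Agent.Lib.Helper6.Lift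
open Groth.Agent.Lib.Helper4

namespace Groth.Agent.Lib.Helper6.HCompl

section Inj

variable {A : Type u} [CommRing A] {A' : Type u} [CommRing A'] [Algebra A A']
variable {B : Type u} [CommRing B] [Bialgebra A B] {M : Type u} [CommGroup M]
variable (e : A' ⊗[A] B ≃ₐc[A'] MonoidAlgebra A' M)

lemma cc_jointly_injective (w : MonoidAlgebra A' M ⊗[A'] MonoidAlgebra A' M)
    (h : ∀ m m', cc A' m m' w = 0) : w = 0 := by
  classical
  obtain ⟨Ξ, hΞ⟩ : ∃ Ξ : MonoidAlgebra A' M ⊗[A'] MonoidAlgebra A' M ≃ₗ[A'] (M × M →₀ A'),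
      ∀ w m m', Ξ w (m, m') = cc A' m m' w := by
    refine ⟨TensorProduct.congr (MonoidAlgebra.coeffLinearEquiv A')
      (MonoidAlgebra.coeffLinearEquiv A') ≪≫ₗ finsuppTensorFinsupp' A' M M, ?_⟩
    intro w m m'
    induction w using TensorProduct.induction_on with
    | zero => simp
    | tmul x x' =>
      rw [LinearEquiv.trans_apply, TensorProduct.congr_tmul, finsuppTensorFinsupp'_apply_apply]
      rfl
    | add y z hy hz => rw [map_add, Finsupp.add_apply, hy, hz, map_add]
  apply Ξ.injective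
  rw [map_zero]
  ext ⟨m, m'⟩
  rw [hΞ, h]
  rfl

lemma map_e_injective : Function.Injective
    (TensorProduct.map (e : A' ⊗[A] B →ₗ[A'] MonoidAlgebra A' M)
      (e : A' ⊗[A] B →ₗ[A'] MonoidAlgebra A' M)) := by
  have hl : Function.LeftInverse
      (TensorProduct.map (e.symm : MonoidAlgebra A' M →ₗ[A'] A' ⊗[A] B)
        (e.symm : MonoidAlgebra A' M →ₗ[A'] A' ⊗[A] B))
      (TensorProduct.map (e : A' ⊗[A] B →ₗ[A'] MonoidAlgebra A' M)
        (e : A' ⊗[A] B →ₗ[A'] MonoidAlgebra A' M)) := by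
    intro w
    induction w using TensorProduct.induction_on with
    | zero => simp
    | tmul x x' =>
      rw [TensorProduct.map_tmul, TensorProduct.map_tmul]
      exact congrArg₂ (fun a b => a ⊗ₜ[A'] b) (e.symm_apply_apply x) (e.symm_apply_apply x')
    | add y z hy hz => rw [map_add, map_add, hy, hz]
  exact hl.injective

variable [Module.FaithfullyFlat A A']

lemma ell_jointly_injective (b : B) (h : ∀ m, ell e m b = 0) : b = 0 := by
  have h1 : rho e ((1 : A') ⊗ₜ[A] b) = 0 := by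
    ext m
    show rho e ((1 : A') ⊗ₜ[A] b) m = 0
    exact h m
  have h2 : (1 : A') ⊗ₜ[A] b = 0 := (rho e).injective (by rw [h1, map_zero])
  exact (Module.FaithfullyFlat.one_tmul_eq_zero_iff A B (A := A') b).mp h2

lemma theta_jointly_injective (z : B ⊗[A] B) (h : ∀ m m', theta e m m' z = 0) : z = 0 := by
  have h1 : TensorProduct.map (e : A' ⊗[A] B →ₗ[A'] MonoidAlgebra A' M)
      (e : A' ⊗[A] B →ₗ[A'] MonoidAlgebra A' M) (T₀ A A' B z) = 0 :=
    cc_jointly_injective _ (fun m m' => by rw [cc_T₀]; exact h m m')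
  have h2 : T₀ A A' B z = 0 := map_e_injective e (by rw [h1, map_zero])
  rw [T₀_eq_distrib] at h2
  have h3 : (1 : A') ⊗ₜ[A] z = 0 :=
    (TensorProduct.AlgebraTensorModule.distribBaseChange A A' B B).injective
      (by rw [h2, map_zero])
  exact (Module.FaithfullyFlat.one_tmul_eq_zero_iff A (B ⊗[A] B) (A := A') z).mp h3

end Inj

section Alg

variable {A : Type u} [CommRing A] [IsNoetherianRing A] (I : Ideal A) [IsAdicComplete I A]
variable {A' : Type u} [CommRing A'] [Algebra A A'] [Module.Finite A A']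
  [Module.FaithfullyFlat A A']
variable {B : Type u} [CommRing B] [Bialgebra A B] {M : Type u} [CommGroup M]
variable (e : A' ⊗[A] B ≃ₐc[A'] MonoidAlgebra A' M)
variable {C : Type u} [CommRing C] [HopfAlgebra A C]

include e in
/-- `B` is separated. -/
lemma sep_B (b : B) (h : ∀ n : ℕ, iq (I ^ (n + 1)) B b = 0) : b = 0 := by
  haveI : IsAdicComplete I A' := FFAlg1.isAdicComplete_of_finite I
  apply eq_zero_of_family I (fun m => ell e m) (ell_jointly_injective e) b
  intro n
  rw [mem_smul_top_iff]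
  exact mem_of_iq_eq_zero _ (h n)

include e in
/-- `B ⊗ B` is separated. -/
lemma sep_BB (z : B ⊗[A] B) (h : ∀ n : ℕ, iq (I ^ (n + 1)) (B ⊗[A] B) z = 0) : z = 0 := by
  haveI : IsAdicComplete I A' := FFAlg1.isAdicComplete_of_finite I
  apply eq_zero_of_family I (fun p : M × M => theta e p.1 p.2)
    (fun z hz => theta_jointly_injective e z (fun m m' => hz (m, m'))) z
  intro n
  rw [mem_smul_top_iff]
  exact mem_of_iq_eq_zero _ (h n)

/-- The coefficients of an approximate element. -/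
lemma approx_mem (K : Ideal A) (y : A' ⊗[A] B) (b : B)
    (h : ∀ m, iq K A' (rho e y m) = iq K A' (ell e m b)) :
    y - (1 : A') ⊗ₜ[A] b ∈ K • (⊤ : Submodule A (A' ⊗[A] B)) := by
  have h1 : rho e (y - (1 : A') ⊗ₜ[A] b) ∈ K • (⊤ : Submodule A (M →₀ A')) := by
    apply finsupp_mem_smul_top
    intro m
    rw [mem_smul_top_iff]
    apply mem_of_iq_eq_zero K
    rw [map_sub, Finsupp.sub_apply, map_sub, h m]
    exact sub_self _
  have h2 := smul_top_map_mem K (rho e).symm.toLinearMap h1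
  rwa [LinearEquiv.coe_coe, LinearEquiv.symm_apply_apply] at h2

include e in
/-- Descent of an element of `A' ⊗ B` which is approximated by elements of `B`. -/
lemma descend (y : A' ⊗[A] B)
    (h : ∀ n : ℕ, ∃ b : B,
      y - (1 : A') ⊗ₜ[A] b ∈ (I ^ (n + 1)) • (⊤ : Submodule A (A' ⊗[A] B))) :
    ∃ b : B, y = (1 : A') ⊗ₜ[A] b := by
  classical
  apply exists_of_dA_eq_dB A A' B y
  rw [← sub_eq_zero]
  haveI : IsAdicComplete I (A' ⊗[A] A') := FFAlg1.isAdicComplete_of_finite I
  obtain ⟨ρ₂, -⟩ : ∃ ρ₂ : A' ⊗[A] (A' ⊗[A] B) ≃ₗ[A] (M →₀ A' ⊗[A] A'), ρ₂ = ρ₂ :=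
    ⟨(LinearEquiv.lTensor A' (rho e)) ≪≫ₗ TensorProduct.finsuppRight A A A' A' M, rfl⟩
  have key : ∀ x : A' ⊗[A] (A' ⊗[A] B),
      (∀ n : ℕ, x ∈ (I ^ (n + 1)) • (⊤ : Submodule A (A' ⊗[A] (A' ⊗[A] B)))) → x = 0 := by
    intro x hx
    refine eq_zero_of_family I
      (fun m : M => (Finsupp.lapply (R := A) (M := A' ⊗[A] A') m) ∘ₗ ρ₂.toLinearMap) ?_ x hx
    intro x hx
    apply ρ₂.injective
    rw [map_zero]
    apply Finsupp.ext
    intro m
    exact hx m
  apply key
  intro n
  obtain ⟨b, hb⟩ := h n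
  have e1 : dA A A' B y - dB A A' B y =
      (dA A A' B - dB A A' B) (y - (1 : A') ⊗ₜ[A] b) := by
    simp only [map_sub, LinearMap.sub_apply, dA_apply, dB_tmul, sub_self, sub_zero]
  rw [e1]
  exact smul_top_map_mem _ _ hb

lemma exists_coeff (F : ∀ n : ℕ, C →ₐ[A] Bq (I ^ (n + 1)) B)
    (hFt : ∀ n, (tq (pow_succ_le I n) B).comp (F (n + 1)) = F n) :
    ∃ φ : M → (C →ₗ[A] A'), ∀ m n c,
      iq (I ^ (n + 1)) A' (φ m c) = barL (I ^ (n + 1)) (ell e m) (F n c) := by
  haveI : IsAdicComplete I A' := FFAlg1.isAdicComplete_of_finite I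
  have h : ∀ m : M, ∃ φ : C →ₗ[A] A', ∀ n c,
      iq (I ^ (n + 1)) A' (φ c) = barL (I ^ (n + 1)) (ell e m) (F n c) := by
    intro m
    obtain ⟨φ, hφ⟩ := exists_limit_lin I (T := A')
      (fun n => (barL (I ^ (n + 1)) (ell e m)) ∘ₗ (F n).toLinearMap) (by
        intro n x
        show tq (pow_succ_le I n) A' (barL (I ^ (n + 1 + 1)) (ell e m) (F (n + 1) x)) =
          barL (I ^ (n + 1)) (ell e m) (F n x)
        have h := AlgHom.congr_fun (hFt n) x
        rw [tq_barL]
        exact congrArg (barL (I ^ (n + 1)) (ell e m)) h)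
    exact ⟨φ, fun n c => hφ n c⟩
  choose φ hφ using h
  exact ⟨φ, hφ⟩

lemma orth_coeff [DecidableEq M] (F : ∀ n : ℕ, C →ₐ[A] Bq (I ^ (n + 1)) B)
    (hFc : ∀ n, IsComultB (I ^ (n + 1)) (F n)) (φ : M → (C →ₗ[A] A'))
    (hφ : ∀ m n c, iq (I ^ (n + 1)) A' (φ m c) = barL (I ^ (n + 1)) (ell e m) (F n c))
    (m m' : M) :
    (toConv (φ m) : Cv A C A') * toConv (φ m') = if m = m' then toConv (φ m) else 0 := by
  haveI : IsAdicComplete I A' := FFAlg1.isAdicComplete_of_finite I
  apply cv_ext_iq I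
  intro n
  have hpush : ∀ k, pushR (iq (I ^ (n + 1)) A') (toConv (φ k) : Cv A C A') =
      pushL (barL (I ^ (n + 1)) (ell e k)) (cvOf (F n)) := by
    intro k
    apply WithConv.ext
    ext c
    exact hφ k n c
  rw [map_mul, hpush, hpush, orth_bar e (I ^ (n + 1)) (F n) (hFc n) m m']
  split_ifs with h
  · rw [hpush]
  · rw [map_zero]

include e in
/-- **Algebraization of a tower.** -/
theorem exists_algebraization (F : ∀ n : ℕ, C →ₐ[A] Bq (I ^ (n + 1)) B)
    (hFc : ∀ n, IsComultB (I ^ (n + 1)) (F n))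
    (hFt : ∀ n, (tq (pow_succ_le I n) B).comp (F (n + 1)) = F n) :
    ∃ Φ : C →ₐ[A] B, IsComult Φ ∧ ∀ n, (iq (I ^ (n + 1)) B).comp Φ = F n := by
  classical
  haveI : IsAdicComplete I A' := FFAlg1.isAdicComplete_of_finite I
  haveI : IsNoetherianRing A' := IsNoetherianRing.of_finite A A'
  obtain ⟨φ, hφ⟩ := exists_coeff I e F hFt
  have horth := orth_coeff I e F hFc φ hφ
  have hfin : ∀ c, (Function.support (fun m => φ m c)).Finite := fun c =>
    finite_support (fun m => (toConv (φ m) : Cv A C A')) horth c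
  have hlift : ∀ n c, ∃ b : B, iq (I ^ (n + 1)) B b = F n c :=
    fun n c => iq_surjective _ B (F n c)
  choose bl hbl using hlift
  have happrox : ∀ c n, (rho e).symm (Finsupp.ofSupportFinite (fun m => φ m c) (hfin c)) -
      (1 : A') ⊗ₜ[A] bl n c ∈ (I ^ (n + 1)) • (⊤ : Submodule A (A' ⊗[A] B)) := by
    intro c n
    apply approx_mem e
    intro m
    rw [LinearEquiv.apply_symm_apply]
    show iq (I ^ (n + 1)) A' (φ m c) = iq (I ^ (n + 1)) A' (ell e m (bl n c))
    rw [hφ m n c, ← hbl n c]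
    exact barL_iq _ _ _
  have hdesc : ∀ c, ∃ b : B,
      (rho e).symm (Finsupp.ofSupportFinite (fun m => φ m c) (hfin c)) = (1 : A') ⊗ₜ[A] b :=
    fun c => descend I e _ (fun n => ⟨bl n c, happrox c n⟩)
  choose Fb hFb using hdesc
  have hred : ∀ n c, iq (I ^ (n + 1)) B (Fb c) = F n c := by
    intro n c
    rw [← hbl n c, ← sub_eq_zero, ← map_sub]
    apply iq_eq_zero_of_mem (I ^ (n + 1))
    rw [← mem_smul_top_iff]
    apply mem_smul_top_of_one_tmul_mem A'
    rw [TensorProduct.tmul_sub, ← hFb c]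
    exact happrox c n
  have sepB : ∀ b b' : B, (∀ n : ℕ, iq (I ^ (n + 1)) B b = iq (I ^ (n + 1)) B b') → b = b' := by
    intro b b' h
    rw [← sub_eq_zero]
    apply sep_B I e
    intro n
    rw [map_sub, h n, sub_self]
  obtain ⟨Φ, hΦ⟩ : ∃ Φ : C →ₐ[A] B, ∀ c, Φ c = Fb c := by
    refine ⟨AlgHom.ofLinearMap { toFun := Fb, map_add' := ?_, map_smul' := ?_ } ?_ ?_,
      fun c => rfl⟩
    · intro x y
      apply sepB
      intro n
      rw [map_add, hred n (x + y), hred n x, hred n y, map_add]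
    · intro r x
      apply sepB
      intro n
      rw [RingHom.id_apply, map_smul, hred n (r • x), hred n x, map_smul]
    · apply sepB
      intro n
      show iq (I ^ (n + 1)) B (Fb 1) = iq (I ^ (n + 1)) B 1
      rw [hred n 1, map_one, map_one]
    · intro x y
      apply sepB
      intro n
      show iq (I ^ (n + 1)) B (Fb (x * y)) = iq (I ^ (n + 1)) B (Fb x * Fb y)
      rw [map_mul, hred n (x * y), hred n x, hred n y, map_mul]
  have hΦn : ∀ n, (iq (I ^ (n + 1)) B).comp Φ = F n := by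
    intro n
    apply AlgHom.ext
    intro c
    show iq (I ^ (n + 1)) B (Φ c) = F n c
    rw [hΦ, hred]
  refine ⟨Φ, ?_, hΦn⟩
  rw [isComult_iff_defect]
  have hz : ∀ c, (defect Φ) c = 0 := by
    intro c
    apply sep_BB I e
    intro n
    have h1 := defect_bar (I ^ (n + 1)) Φ
    rw [hΦn n] at h1
    have h2 : pushR (iq (I ^ (n + 1)) (B ⊗[A] B)) (defect Φ) = 0 := by
      rw [← h1]
      exact (isComultB_iff _ _).mp (hFc n)
    have := congrArg (fun v : Cv A C (Bq (I ^ (n + 1)) (B ⊗[A] B)) => v c) h2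
    exact this
  apply WithConv.ext
  ext c
  exact hz c

end Alg

end Groth.Agent.Lib.Helper6.HCompl
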