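import Mathlib
import Groth.Prelude.Def_SGA3b
import Groth.Agent.Lib.Helper6.HCompl.HC4
import Groth.Agent.Lib.Helper6.FlatDef.FD5

/-!
# Lifting homomorphisms from an isotrivial group of multiplicative type over a complete base (helper6)
-/

set_option autoImplicit false
set_option linter.unusedSectionVars false
set_option linter.unusedVariables false
set_option linter.unusedSimpArgs false
set_option linter.style.haveILetI false
set_option linter.overlappingInstances false
set_option maxHeartbeats 800000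
set_option synthInstance.maxHeartbeats 400000

universe u
open TensorProduct SGA3b Coalgebra WithConv
open Groth.Agent.Lib.Helper6.MultType Groth.Agent.Lib.Helper6.FlatDef
open Groth.Agent.Lib.Helper6.HInt Groth.Agent.Lib.Helper6.Lift

namespace Groth.Agent.Lib.Helper6.HCompl

/-- **Lifting over a complete Noetherian base.** -/
theorem exists_lift_complete (A : Type u) [CommRing A] [IsNoetherianRing A] (I : Ideal A)
    [IsAdicComplete I A] (B : Type u) [CommRing B] [HopfAlgebra A B] (hH : IsIsotrivial A B)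
    (C : Type u) [CommRing C] [HopfAlgebra A C] [Algebra.FormallySmooth A C]
    (φ₀ : ((A ⧸ I) ⊗[A] C) →ₐc[A ⧸ I] ((A ⧸ I) ⊗[A] B)) :
    ∃ φ : C →ₐc[A] B, ∀ c : C, φ₀ ((1 : A ⧸ I) ⊗ₜ[A] c) = (1 : A ⧸ I) ⊗ₜ[A] (φ c) := by
  obtain ⟨lam, h1, hL⟩ := exists_integral (isMultType_of_isIsotrivial hH)
  obtain ⟨A', _, _, -, hfin, hff, M, _, ⟨e⟩⟩ := hH
  haveI := hfin
  haveI := hff
  obtain ⟨F, hFc, hFt, hF0⟩ := exists_tower lam h1 hL I _ (isComultB_of_bialgHom I φ₀)
  obtain ⟨Φ, hΦc, hΦn⟩ := exists_algebraization I e F hFc hFt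
  obtain ⟨φ, hφ⟩ := exists_bialgHom_of_isComult Φ hΦc
  refine ⟨φ, fun c => ?_⟩
  rw [hφ c]
  have h2 := AlgHom.congr_fun hF0 c
  have h3 := AlgHom.congr_fun (hΦn 0) c
  have h4 : φ₀ ((1 : A ⧸ I) ⊗ₜ[A] c) = tq (pow_one_le I) B (F 0 c) := h2.symm
  rw [h4, ← h3]
  exact tq_iq (pow_one_le I) B (Φ c)

end Groth.Agent.Lib.Helper6.HCompl
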